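import Groth.Agent.Ega1.QCohFinite
import Groth.Agent.PerfA.ExtZero

/-!
# Small quasi-coherent submodules (Gabber's argument)

For an arbitrary scheme `X` and a family of sections `s U ∈ Γ(F, U)` (`U` affine) of a
quasi-coherent module `F` we construct a quasi-coherent submodule `G ⊆ F` containing the given
sections, such that `G` is a quotient of a module `bigE X` which only depends on `X`.
-/

set_option autoImplicit false
universe u

open CategoryTheory CategoryTheory.Limits AlgebraicGeometry TopologicalSpace Opposite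
open Groth.Agent.Ega1.SubSheaf Groth.Agent.Ega1.LocMod Groth.Agent.Ega1.QCohOfLoc
open Groth.Agent.Ega1.QCohFinite

namespace K658.Gabber

variable {X : Scheme.{u}}

/-- A family of submodules of the sections over affine opens, compatible with localization. -/
structure AffSub (M : X.Modules) where
  /-- the sections over an affine open -/
  obj (U : X.affineOpens) : Submodule Γ(X, U.1) Γ(M, U.1)
  map_mem {U V : X.affineOpens} (h : V.1 ≤ U.1) {s : Γ(M, U.1)} (hs : s ∈ obj U) :
    res M h s ∈ obj V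
  lift (U : X.affineOpens) (f : Γ(X, U.1)) (s : Γ(M, X.basicOpen f))
    (hs : s ∈ obj (X.affineBasicOpen f)) : ∃ (n : ℕ) (t : Γ(M, U.1)), t ∈ obj U ∧
      res M (X.basicOpen_le f) t = (resR (X.basicOpen_le f) f) ^ n • s

namespace AffSub

variable {M : X.Modules} (N : AffSub M)

/-- The subsheaf attached to a compatible family. -/
noncomputable def toSub (hM : ∀ W : X.affineOpens, Loc M W.1) : Sub M where
  obj W :=
    { carrier := {s | ∀ (V : X.affineOpens) (h : V.1 ≤ W), res M h s ∈ N.obj V}
      add_mem' := fun {a b} ha hb V h ↦ by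
        rw [map_add]; exact (N.obj V).add_mem (ha V h) (hb V h)
      zero_mem' := fun V h ↦ by rw [map_zero]; exact (N.obj V).zero_mem
      smul_mem' := fun c a ha V h ↦ by
        rw [res_smul]; exact (N.obj V).smul_mem _ (ha V h) }
  map_mem {U V} h s hs W hW := by
    rw [res_res]; exact hs W _
  local_mem {U} s h W hW := by
    refine mem_of_cover W.2 _ _ fun x hx ↦ ?_
    obtain ⟨V, hV, hxV, hs⟩ := h x (hW hx)
    obtain ⟨f, hf, hxf⟩ := W.2.exists_basicOpen_le ⟨x, hxV⟩ hx
    have h1 : res M (X.basicOpen_le f) (res M hW s) ∈ N.obj (X.affineBasicOpen f) := by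
      have h2 : res M (hf.trans hV) s ∈ N.obj (X.affineBasicOpen f) := by
        have h3 := hs (X.affineBasicOpen f) hf
        have h4 := res_res M hV hf s
        rw [← h4]; exact h3
      have h5 := res_res M hW (X.basicOpen_le f) s
      rw [h5]
      exact h2
    obtain ⟨n, t, ht, hts⟩ := N.lift W f _ h1
    obtain ⟨m, hm⟩ := (hM W).inj f (t - f ^ n • res M hW s) (by
      rw [map_sub, hts, res_smul, map_pow, sub_self])
    refine ⟨f, m + n, hxf, ?_⟩
    rw [smul_sub, sub_eq_zero, smul_smul, ← pow_add] at hm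
    rw [← hm]
    exact (N.obj W).smul_mem _ ht

lemma mem_toSub (hM : ∀ W : X.affineOpens, Loc M W.1) (U : X.affineOpens) (s : Γ(M, U.1)) :
    s ∈ (N.toSub hM).obj U.1 ↔ s ∈ N.obj U := by
  constructor
  · intro h
    have := h U le_rfl
    rwa [res_self] at this
  · intro h V hV
    exact N.map_mem hV h

lemma loc_toSub (hM : ∀ W : X.affineOpens, Loc M W.1) (U : X.affineOpens) :
    Loc (N.toSub hM).toModules U.1 where
  surj f s := by
    let S := N.toSub hM
    have hs : S.ι.app _ s ∈ N.obj (X.affineBasicOpen f) :=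
      (N.mem_toSub hM (X.affineBasicOpen f) _).1 (S.ι_app_mem s)
    obtain ⟨n, t, ht, hts⟩ := N.lift U f _ hs
    refine ⟨n, S.sec t ((N.mem_toSub hM U t).2 ht), ?_⟩
    apply S.ι_app_injective
    rw [app_res, S.ι_app_sec, hts, app_smul']
  inj f t ht := by
    let S := N.toSub hM
    obtain ⟨n, hn⟩ := (hM U).inj f (S.ι.app _ t) (by rw [← app_res, ht, map_zero])
    refine ⟨n, ?_⟩
    apply S.ι_app_injective
    rw [app_smul', hn, map_zero]

theorem isQuasicoherent_toSub (hM : ∀ W : X.affineOpens, Loc M W.1) :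
    SheafOfModules.IsQuasicoherent (R := X.ringCatSheaf) (N.toSub hM).toModules := by
  refine isQuasicoherent_of_loc _ fun x ↦ ?_
  obtain ⟨_, ⟨W, hW, rfl⟩, hxW, -⟩ := X.isBasis_affineOpens.exists_subset_of_mem_open
    (Set.mem_univ x) isOpen_univ
  exact ⟨W, hxW, hW, N.loc_toSub hM ⟨W, hW⟩⟩

end AffSub

variable (X) in
/-- Formal expressions for sections over affine opens. -/
inductive Term : X.affineOpens → Type u
  | base (U : X.affineOpens) : Term U
  | zero (U : X.affineOpens) : Term U
  | add {U : X.affineOpens} (a b : Term U) : Term U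
  | smul {U : X.affineOpens} (r : Γ(X, U.1)) (a : Term U) : Term U
  | res {U : X.affineOpens} (V : X.affineOpens) (h : V.1 ≤ U.1) (a : Term U) : Term V
  | lift {U : X.affineOpens} (f : Γ(X, U.1)) (a : Term (X.affineBasicOpen f)) : Term U

section

variable {F : X.Modules} (hF : ∀ W : X.affineOpens, Loc F W.1)
  (s : ∀ U : X.affineOpens, Γ(F, U.1))

/-- The value of a formal expression. -/
noncomputable def val : ∀ {U : X.affineOpens}, Term X U → Γ(F, U.1)
  | _, .base U => s U
  | _, .zero U => 0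
  | _, .add a b => val a + val b
  | _, .smul r a => r • val a
  | _, .res V h a => Groth.Agent.Ega1.SubSheaf.res F h (val a)
  | U, .lift f a => ((hF U).surj f (val a)).choose_spec.choose

/-- The submodules of values of formal expressions. -/
noncomputable def valSub : AffSub F where
  obj U :=
    { carrier := Set.range (val hF s (U := U))
      add_mem' := by
        rintro _ _ ⟨a, rfl⟩ ⟨b, rfl⟩
        exact ⟨.add a b, rfl⟩
      zero_mem' := ⟨.zero U, rfl⟩
      smul_mem' := by
        rintro r _ ⟨a, rfl⟩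
        exact ⟨.smul r a, rfl⟩ }
  map_mem := by
    rintro U V h _ ⟨a, rfl⟩
    exact ⟨.res V h a, rfl⟩
  lift := by
    rintro U f _ ⟨a, rfl⟩
    exact ⟨_, _, ⟨.lift f a, rfl⟩, ((hF U).surj f (val hF s a)).choose_spec.choose_spec⟩

lemma base_mem (U : X.affineOpens) : s U ∈ (valSub hF s).obj U := ⟨.base U, rfl⟩

end

variable (X) in
/-- A module having all the `valSub` as quotients. -/
noncomputable def bigE : X.Modules :=
  ∐ fun t : (Σ U : X.affineOpens, Term X U) ↦ Groth.Agent.PerfA.ExtZero.OU t.1.1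

/-- A local surjectivity criterion for epimorphisms. -/
lemma epi_of_affine {M N : X.Modules} (φ : M ⟶ N)
    (h : ∀ (U : X.affineOpens) (s : Γ(N, U.1)), ∃ t, φ.app U.1 t = s) : Epi φ := by
  constructor
  intro Z a b hab
  apply Scheme.Modules.hom_ext
  intro W
  ext s
  change a.app W s = b.app W s
  refine section_ext Z _ _ fun x hx ↦ ?_
  obtain ⟨_, ⟨V, hV, rfl⟩, hxV, hVW'⟩ := X.isBasis_affineOpens.exists_subset_of_mem_open
    hx W.2
  have hVW : V ≤ W := hVW'
  refine ⟨V, hVW, hxV, ?_⟩
  obtain ⟨t, ht⟩ := h ⟨V, hV⟩ (res N hVW s)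
  have h1 : a.app V (φ.app V t) = b.app V (φ.app V t) := by
    have := congr(($hab).app V t)
    simpa using this
  rw [← app_res, ← app_res, ← ht]
  exact h1

/-- Gabber's lemma: small quasi-coherent submodules. -/
theorem exists_small_sub {F : X.Modules} (hFq : SheafOfModules.IsQuasicoherent (R := X.ringCatSheaf) F)
    (s : ∀ U : X.affineOpens, Γ(F, U.1)) :
    ∃ (G : X.Modules) (_ : SheafOfModules.IsQuasicoherent (R := X.ringCatSheaf) G) (i : G ⟶ F)
      (p : bigE X ⟶ G), Mono i ∧ Epi p ∧ ∀ U : X.affineOpens, ∃ t : Γ(G, U.1), i.app U.1 t = s U := by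
  have hF : ∀ W : X.affineOpens, Loc F W.1 := fun W ↦
    haveI := hFq
    loc_of_isQuasicoherent F W.2
  let N := valSub hF s
  let S := N.toSub hF
  let sec (U : X.affineOpens) (t : Term X U) : Γ(S.toModules, U.1) :=
    S.sec (val hF s t) ((N.mem_toSub hF U _).2 ⟨t, rfl⟩)
  let p : bigE X ⟶ S.toModules := Sigma.desc fun t ↦ Groth.Agent.PerfA.ExtZero.desc (sec t.1 t.2)
  refine ⟨S.toModules, N.isQuasicoherent_toSub hF, S.ι, p, inferInstance, ?_, fun U ↦ ?_⟩
  · refine epi_of_affine _ fun U y ↦ ?_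
    have hy : S.ι.app _ y ∈ N.obj U := (N.mem_toSub hF U _).1 (S.ι_app_mem y)
    obtain ⟨t, ht⟩ := hy
    let q : Groth.Agent.PerfA.ExtZero.OU U.1 ⟶ bigE X :=
      Sigma.ι (fun t : (Σ U : X.affineOpens, Term X U) ↦ Groth.Agent.PerfA.ExtZero.OU t.1.1) ⟨U, t⟩
    refine ⟨q.app U.1 (Groth.Agent.PerfA.ExtZero.gen U.1), ?_⟩
    have hq : q ≫ p = Groth.Agent.PerfA.ExtZero.desc (sec U t) :=
      Sigma.ι_desc _ _
    have h1 := congr(($hq).app U.1 (Groth.Agent.PerfA.ExtZero.gen U.1))
    rw [Groth.Agent.PerfA.ExtZero.desc_app_gen] at h1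
    have h2 : p.app U.1 (q.app U.1 (Groth.Agent.PerfA.ExtZero.gen U.1)) = sec U t := h1
    rw [h2]
    apply S.ι_app_injective
    rw [← ht]
    rfl
  · exact ⟨S.sec (s U) ((N.mem_toSub hF U _).2 (base_mem hF s U)), rfl⟩

end K658.Gabber
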