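import Groth.Agent.Models2.QCohColim
import Groth.Agent.PerfA.QCohSerre
import Groth.Agent.S0484
import Groth.Agent.QCohCat.K658.Gabber
import Mathlib.CategoryTheory.Abelian.Subcategory
import Mathlib.CategoryTheory.Abelian.GrothendieckCategory.EnoughInjectives
import Mathlib.CategoryTheory.ObjectProperty.FiniteProducts

/-!
# `QCoh(X)` is a Grothendieck abelian category, for every scheme `X`
-/

set_option autoImplicit false
universe u

open CategoryTheory CategoryTheory.Limits AlgebraicGeometry TopologicalSpace Opposite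

namespace K658.Abel

variable (X : Scheme.{u})

local instance : (QCohCat.isQCoh X).IsClosedUnderIsomorphisms :=
  inferInstanceAs (SheafOfModules.isQuasicoherent X.ringCatSheaf).IsClosedUnderIsomorphisms

instance isGrothendieckAbelian_modules : IsGrothendieckAbelian.{u} X.Modules :=
  Groth.Agent.S0484.result (Opens.grothendieckTopology X) X.ringCatSheaf

instance isClosedUnderKernels : (QCohCat.isQCoh X).IsClosedUnderKernels :=
  inferInstanceAs (Groth.Agent.PerfA.QCohSerre.qcoh X).IsClosedUnderKernels

instance isClosedUnderCokernels : (QCohCat.isQCoh X).IsClosedUnderCokernels :=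
  inferInstanceAs (Groth.Agent.PerfA.QCohSerre.qcoh X).IsClosedUnderCokernels

instance containsZero : (QCohCat.isQCoh X).ContainsZero :=
  inferInstanceAs (Groth.Agent.PerfA.QCohSerre.qcoh X).ContainsZero

instance isClosedUnderColimitsOfShape (J : Type u) [SmallCategory J] :
    (QCohCat.isQCoh X).IsClosedUnderColimitsOfShape J := inferInstance

instance isClosedUnderFiniteProducts : (QCohCat.isQCoh X).IsClosedUnderFiniteProducts := by
  refine ObjectProperty.IsClosedUnderFiniteProducts.of_isClosedUnderLimitsOfShape.{u} fun J _ ↦ ⟨?_⟩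
  rintro M ⟨h⟩
  let f : J → X.Modules := fun j ↦ h.diag.obj ⟨j⟩
  have : HasBiproduct f := HasBiproduct.of_hasProduct f
  have e : M ≅ ∐ f :=
    (IsLimit.conePointsIsoOfNatIso h.isLimit (limit.isLimit (Discrete.functor f))
      (Discrete.natIso fun j ↦ Iso.refl _)) ≪≫
      (biproduct.isoProduct f).symm ≪≫ biproduct.isoCoproduct f
  refine (QCohCat.isQCoh X).prop_of_iso e.symm ?_
  exact (QCohCat.isQCoh X).prop_of_isColimit (colimit.isColimit (Discrete.functor f))
    (fun j ↦ h.prop_diag_obj j)

/-- `QCoh(X)` is abelian. -/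
noncomputable instance abelian : Abelian (QCohCat.QCoh X) := inferInstance

instance preservesFiniteLimits_ι : PreservesFiniteLimits (QCohCat.isQCoh X).ι := by
  have := (QCohCat.isQCoh X).preservesKernels_ι
  exact Functor.preservesFiniteLimits_of_preservesKernels _

instance preservesFiniteColimits_ι : PreservesFiniteColimits (QCohCat.isQCoh X).ι := by
  have := (QCohCat.isQCoh X).preservesCokernels_ι
  exact Functor.preservesFiniteColimits_of_preservesCokernels _

instance hasColimits : HasColimitsOfSize.{u, u} (QCohCat.QCoh X) where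
  has_colimits_of_shape _ _ := inferInstance

instance preservesColimits_ι : PreservesColimitsOfSize.{u, u} (QCohCat.isQCoh X).ι where
  preservesColimitsOfShape {_} _ := inferInstance

instance ab5 : AB5OfSize.{u, u} (QCohCat.QCoh X) where
  ofShape J _ _ :=
    HasExactColimitsOfShape.domain_of_functor J (QCohCat.isQCoh X).ι

/-- The quasi-coherent quotients of `bigE X`. -/
def smallQC : ObjectProperty (QCohCat.QCoh X) := fun G ↦ ∃ p : K658.Gabber.bigE X ⟶ G.obj, Epi p

theorem exists_small {F : QCohCat.QCoh X} (s : ∀ U : X.affineOpens, Γ(F.obj, U.1)) :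
    ∃ (G : QCohCat.QCoh X) (i : G ⟶ F), Mono i ∧ smallQC X G ∧
      ∀ U : X.affineOpens, ∃ t : Γ(G.obj, U.1), i.hom.app U.1 t = s U := by
  obtain ⟨G, hG, i, p, hi, hp, hs⟩ := K658.Gabber.exists_small_sub F.property s
  refine ⟨⟨G, hG⟩, ObjectProperty.homMk i, ?_, ⟨p, hp⟩, hs⟩
  have : Mono ((QCohCat.isQCoh X).ι.map (ObjectProperty.homMk i : (⟨G, hG⟩ : QCohCat.QCoh X) ⟶ F)) := hi
  exact (QCohCat.isQCoh X).ι.mono_of_mono_map this

theorem hom_ext_affine {F G : X.Modules} {f g : F ⟶ G}
    (h : ∀ (U : X.affineOpens) (s : Γ(F, U.1)), f.app U.1 s = g.app U.1 s) : f = g := by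
  apply Scheme.Modules.hom_ext
  intro W
  ext s
  change f.app W s = g.app W s
  refine Groth.Agent.Ega1.SubSheaf.section_ext G _ _ fun x hx ↦ ?_
  obtain ⟨_, ⟨V, hV, rfl⟩, hxV, hVW'⟩ := X.isBasis_affineOpens.exists_subset_of_mem_open
    hx W.2
  have hVW : V ≤ W := hVW'
  refine ⟨V, hVW, hxV, ?_⟩
  rw [← Groth.Agent.Ega1.SubSheaf.app_res, ← Groth.Agent.Ega1.SubSheaf.app_res]
  exact h ⟨V, hV⟩ _

theorem isSeparating_smallQC : (smallQC X).IsSeparating := by
  intro F F' f g h
  apply ObjectProperty.hom_ext
  refine hom_ext_affine X fun U s ↦ ?_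
  classical
  obtain ⟨G, i, -, hG, hi⟩ := exists_small X (F := F) (Pi.single U s)
  obtain ⟨t, ht⟩ := hi U
  rw [Pi.single_eq_same] at ht
  have h1 := h G hG i
  have h2 := congr(($h1).hom.app U.1 t)
  rw [← ht]
  exact h2

/-- The subobjects of `bigE X` with quasi-coherent quotient. -/
def Idx : Type (u + 1) :=
  {K : Subobject (K658.Gabber.bigE X) // QCohCat.isQCoh X (cokernel K.arrow)}

instance small_Idx : Small.{u} (Idx X) := by
  have : Small.{u} (Subobject (K658.Gabber.bigE X)) := inferInstance
  exact small_of_injective (β := Subobject (K658.Gabber.bigE X)) Subtype.val_injective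

/-- The quotient attached to an element of `Idx X`. -/
noncomputable def objOf (i : Idx X) : QCohCat.QCoh X := ⟨cokernel i.1.arrow, i.2⟩

/-- A small family of quasi-coherent modules which is separating. -/
noncomputable def fam (k : Shrink.{u} (Idx X)) : QCohCat.QCoh X :=
  objOf X ((equivShrink (Idx X)).symm k)

theorem exists_iso_fam {G : QCohCat.QCoh X} (hG : smallQC X G) : ∃ k, Nonempty (G ≅ fam X k) := by
  obtain ⟨p, hp⟩ := hG
  let K : Subobject (K658.Gabber.bigE X) := Subobject.mk (kernel.ι p)
  have e1 : cokernel K.arrow ≅ cokernel (kernel.ι p) :=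
    cokernel.mapIso _ _ (Subobject.underlyingIso (kernel.ι p)) (Iso.refl _) (by simp [K])
  have e2 : cokernel (kernel.ι p) ≅ G.obj :=
    (asIso (Abelian.factorThruCoimage p) : Abelian.coimage p ≅ G.obj)
  have e : cokernel K.arrow ≅ G.obj := e1 ≪≫ e2
  have hK : QCohCat.isQCoh X (cokernel K.arrow) :=
    (QCohCat.isQCoh X).prop_of_iso e.symm G.property
  let i : Idx X := ⟨K, hK⟩
  refine ⟨equivShrink (Idx X) i, ?_⟩
  have h1 : fam X (equivShrink (Idx X) i) = objOf X i := by
    unfold fam
    rw [Equiv.symm_apply_apply]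
  rw [h1]
  exact ⟨(QCohCat.isQCoh X).isoMk e.symm⟩

theorem isSeparating_fam : (ObjectProperty.ofObj (fam X)).IsSeparating := by
  intro F F' f g h
  refine isSeparating_smallQC X f g fun G hG a ↦ ?_
  obtain ⟨k, ⟨e⟩⟩ := exists_iso_fam X hG
  have h1 := h (fam X k) ⟨k⟩ (e.inv ≫ a)
  rw [Category.assoc, Category.assoc, cancel_epi] at h1
  exact h1

instance hasSeparator : HasSeparator (QCohCat.QCoh X) where
  hasSeparator := ⟨_, (isSeparating_fam X).isSeparator_coproduct⟩

/-- `QCoh(X)` is a Grothendieck abelian category. -/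
instance isGrothendieckAbelian : IsGrothendieckAbelian.{u} (QCohCat.QCoh X) where

instance enoughInjectives : EnoughInjectives (QCohCat.QCoh X) := inferInstance

/-- The special adjoint functor theorem for Grothendieck abelian categories. -/
theorem isLeftAdjoint_of_preservesColimits {C : Type*} [Category.{u} C] [Abelian C]
    [IsGrothendieckAbelian.{u} C] {D : Type*} [Category.{u} D] (F : C ⥤ D)
    [PreservesColimitsOfSize.{u, u} F] : F.IsLeftAdjoint := by
  have : WellPowered.{u} Cᵒᵖ := inferInstance
  exact isLeftAdjoint_of_preservesColimits_of_isSeparating (isSeparator_separator C) F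

/-- Existence of the coherator. -/
theorem isLeftAdjoint_ι : (QCohCat.isQCoh X).ι.IsLeftAdjoint :=
  isLeftAdjoint_of_preservesColimits _

end K658.Abel
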