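import Groth.Agent.PerfA.QCohSerre
import Groth.Agent.Ega1.SubSheaf
import Groth.Agent.Ega1.QcqsPush

/-!
# Modules vanishing on opens, sections killed by restriction to a quasi-compact open
-/

set_option autoImplicit false
universe u

open CategoryTheory CategoryTheory.Limits AlgebraicGeometry TopologicalSpace Opposite
open Groth.Agent.Ega1.SubSheaf

namespace K658.ZeroOn

variable {X : Scheme.{u}}

lemma isZero_of_sections {M : X.Modules} (h : ∀ U : X.Opens, Subsingleton Γ(M, U)) : IsZero M := by
  rw [IsZero.iff_id_eq_zero]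
  apply Scheme.Modules.hom_ext
  intro U
  ext s
  have := h U
  exact Subsingleton.elim (α := Γ(M, U)) _ _

lemma subsingleton_of_isZero {M : X.Modules} (h : IsZero M) (U : X.Opens) :
    Subsingleton Γ(M, U) := by
  refine ⟨fun a b ↦ ?_⟩
  have h1 : 𝟙 M = 0 := (IsZero.iff_id_eq_zero M).1 h
  have h2 (a : Γ(M, U)) : a = 0 := congr(($h1).app U a)
  rw [h2 a, h2 b]

lemma isZero_restrict_iff (M : X.Modules) (W : X.Opens) :
    IsZero ((Scheme.Modules.restrictFunctor W.ι).obj M) ↔
      ∀ W' : X.Opens, W' ≤ W → Subsingleton Γ(M, W') := by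
  constructor
  · intro h W' hW'
    have h1 := subsingleton_of_isZero h (W.ι ⁻¹ᵁ W')
    have h2 : W.ι ''ᵁ (W.ι ⁻¹ᵁ W') = W' := by
      rw [Scheme.Hom.image_preimage_eq_opensRange_inf, Scheme.Opens.opensRange_ι, inf_eq_right.2 hW']
    have h3 : Subsingleton Γ(M, W.ι ''ᵁ (W.ι ⁻¹ᵁ W')) := h1
    rwa [h2] at h3
  · intro h
    refine isZero_of_sections fun U ↦ ?_
    exact h (W.ι ''ᵁ U) (W.ι_image_le U)

/-- The map `F ⟶ j_* (F|_U)`. -/
noncomputable abbrev toPush (F : X.Modules) (U : X.Opens) :
    F ⟶ (Scheme.Modules.pushforward U.ι).obj ((Scheme.Modules.restrictFunctor U.ι).obj F) :=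
  (Scheme.Modules.restrictAdjunction U.ι).unit.app F

lemma toPush_app_eq_zero_iff (F : X.Modules) (U W : X.Opens) (s : Γ(F, W)) :
    (toPush F U).app W s = 0 ↔ res F (inf_le_left : W ⊓ U ≤ W) s = 0 := by
  have h1 : (toPush F U).app W s = res F (U.ι.image_preimage_le W) s := rfl
  rw [h1]
  have h2 : U.ι ''ᵁ (U.ι ⁻¹ᵁ W) = W ⊓ U := by
    rw [Scheme.Hom.image_preimage_eq_opensRange_inf, Scheme.Opens.opensRange_ι, inf_comm]
  have h3 : res F (h2.ge) (res F (U.ι.image_preimage_le W) s) = res F (inf_le_left : W ⊓ U ≤ W) s :=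
    res_res _ _ _ _
  have h4 : res F (h2.le) (res F (inf_le_left : W ⊓ U ≤ W) s) = res F (U.ι.image_preimage_le W) s :=
    res_res _ _ _ _
  constructor
  · intro h
    have h5 : res F (U.ι.image_preimage_le W) s = 0 := h
    rw [← h3, h5, map_zero]
  · intro h
    have h5 : res F (U.ι.image_preimage_le W) s = 0 := by rw [← h4, h, map_zero]
    exact h5

lemma isQCoh_push_restrict (F : X.Modules) (hF : Coh.IsQCoh F) (U : X.Opens) [QuasiCompact U.ι] :
    Coh.IsQCoh ((Scheme.Modules.pushforward U.ι).obj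
      ((Scheme.Modules.restrictFunctor U.ι).obj F)) := by
  have : QuasiSeparated U.ι := inferInstance
  exact Groth.Agent.Ega1.QcqsPush.isQCoh_pushforward _ _
    (Groth.Agent.PerfA.QCohSerre.isQCoh_restrict U.ι hF)

/-- The subsheaf of sections vanishing on `U`. -/
noncomputable abbrev vanOn (F : X.Modules) (U : X.Opens) : X.Modules := kernel (toPush F U)

lemma isQCoh_vanOn (F : X.Modules) (hF : Coh.IsQCoh F) (U : X.Opens) [QuasiCompact U.ι] :
    Coh.IsQCoh (vanOn F U) :=
  Groth.Agent.PerfA.QCohSerre.isQCoh_kernel _ hF (isQCoh_push_restrict F hF U)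

lemma vanOn_injective (F : X.Modules) (U W : X.Opens) :
    Function.Injective ((kernel.ι (toPush F U)).app W) :=
  (Groth.Agent.Ega1.SubSheaf.mono_iff_injective _).1 inferInstance W

lemma res_vanOn (F : X.Modules) (U W : X.Opens) (s : Γ(vanOn F U, W)) :
    res F (inf_le_left : W ⊓ U ≤ W) ((kernel.ι (toPush F U)).app W s) = 0 := by
  rw [← toPush_app_eq_zero_iff]
  exact congr($(kernel.condition (toPush F U)).app W s)

lemma exists_vanOn (F : X.Modules) (U W : X.Opens) (s : Γ(F, W))
    (hs : res F (inf_le_left : W ⊓ U ≤ W) s = 0) :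
    ∃ t : Γ(vanOn F U, W), (kernel.ι (toPush F U)).app W t = s := by
  let N : Sub F :=
    { obj := fun V ↦
        { carrier := {s | res F (inf_le_left : V ⊓ U ≤ V) s = 0}
          add_mem' := fun {a b} ha hb ↦ by
            change res F _ (a + b) = 0
            rw [map_add, show res F _ a = 0 from ha, show res F _ b = 0 from hb, add_zero]
          zero_mem' := map_zero _
          smul_mem' := fun c a ha ↦ by
            change res F _ (c • a) = 0
            rw [res_smul, show res F _ a = 0 from ha, smul_zero] }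
      map_mem := fun {V V'} h s hs ↦ by
        change res F _ (res F h s) = 0
        rw [res_res]
        have h1 : res F (inf_le_inf_right U h : V' ⊓ U ≤ V ⊓ U)
            (res F (inf_le_left : V ⊓ U ≤ V) s) = 0 := by
          rw [show res F (inf_le_left : V ⊓ U ≤ V) s = 0 from hs, map_zero]
        rwa [res_res] at h1
      local_mem := fun {V} s h ↦ by
        change res F _ s = 0
        refine section_ext F _ _ fun x hx ↦ ?_
        obtain ⟨V', hV', hxV', h'⟩ := h x hx.1
        refine ⟨V' ⊓ U, inf_le_inf_right U hV', ⟨hxV', hx.2⟩, ?_⟩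
        have h2 : res F (inf_le_left : V' ⊓ U ≤ V') (res F hV' s) = 0 := h'
        rw [res_res] at h2
        rw [map_zero, res_res]
        exact h2 }
  have hN : N.ι ≫ toPush F U = 0 := by
    apply Scheme.Modules.hom_ext
    intro V
    ext t
    change (toPush F U).app V (N.ι.app V t) = 0
    rw [toPush_app_eq_zero_iff]
    exact N.ι_app_mem t
  refine ⟨(kernel.lift (toPush F U) N.ι hN).app W (N.sec s hs), ?_⟩
  exact congr($(kernel.lift_ι (toPush F U) N.ι hN).app W (N.sec s hs))

lemma isZero_restrict_vanOn (F : X.Modules) (U : X.Opens) :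
    IsZero ((Scheme.Modules.restrictFunctor U.ι).obj (vanOn F U)) := by
  rw [isZero_restrict_iff]
  intro W hW
  have key (s : Γ(vanOn F U, W)) : s = 0 := by
    apply vanOn_injective F U W
    rw [map_zero]
    have h1 := res_vanOn F U W s
    have h2 : res F (le_inf le_rfl hW : W ≤ W ⊓ U)
      (res F (inf_le_left : W ⊓ U ≤ W) ((kernel.ι (toPush F U)).app W s)) = 0 := by
      rw [h1, map_zero]
    rwa [res_res, res_self] at h2
  exact ⟨fun a b ↦ by rw [key a, key b]⟩

lemma isZero_restrict_cokernel_vanOn (F : X.Modules) (U V : X.Opens)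
    (h : IsZero ((Scheme.Modules.restrictFunctor (U ⊓ V).ι).obj F)) :
    IsZero ((Scheme.Modules.restrictFunctor V.ι).obj (cokernel (kernel.ι (toPush F U)))) := by
  rw [isZero_restrict_iff] at h
  have h1 : IsIso ((Scheme.Modules.restrictFunctor V.ι).map (kernel.ι (toPush F U))) := by
    rw [Scheme.Modules.Hom.isIso_iff_isIso_app]
    intro W
    rw [ConcreteCategory.isIso_iff_bijective]
    change Function.Bijective ((kernel.ι (toPush F U)).app (V.ι ''ᵁ W))
    refine ⟨vanOn_injective F U _, fun s ↦ exists_vanOn F U _ s ?_⟩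
    have := h ((V.ι ''ᵁ W) ⊓ U) (le_inf inf_le_right (inf_le_left.trans (V.ι_image_le W)))
    exact Subsingleton.elim _ _
  have e := PreservesCokernel.iso (Scheme.Modules.restrictFunctor V.ι) (kernel.ι (toPush F U))
  exact (isZero_cokernel_of_epi _).of_iso e

end K658.ZeroOn
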