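import Groth.Agent.FormalA.PullbackQC
import Groth.Agent.Models2.QCohPush

/-!
# Pull back and push forward between categories of quasi-coherent modules
-/

set_option autoImplicit false
universe u

open CategoryTheory CategoryTheory.Limits AlgebraicGeometry TopologicalSpace Opposite

namespace K658.PushPull

variable {X Y : Scheme.{u}}

/-- Pull back of quasi-coherent modules. -/
noncomputable def pullQ (f : X ⟶ Y) : QCohCat.QCoh Y ⥤ QCohCat.QCoh X :=
  ObjectProperty.lift _ ((QCohCat.isQCoh Y).ι ⋙ Scheme.Modules.pullback f)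
    fun M ↦ Groth.Agent.FormalA.PullbackQC.isQCoh_pullback f _ M.property

/-- Push forward of quasi-coherent modules. -/
noncomputable def pushQ (f : X ⟶ Y) [QuasiCompact f] [QuasiSeparated f] :
    QCohCat.QCoh X ⥤ QCohCat.QCoh Y :=
  ObjectProperty.lift _ ((QCohCat.isQCoh X).ι ⋙ Scheme.Modules.pushforward f)
    fun M ↦ Groth.Agent.Ega1.QcqsPush.isQCoh_pushforward f _ M.property

/-- Pull back is left adjoint to push forward. -/
noncomputable def adjQ (f : X ⟶ Y) [QuasiCompact f] [QuasiSeparated f] : pullQ f ⊣ pushQ f :=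
  (Scheme.Modules.pullbackPushforwardAdjunction f).restrictFullyFaithful
    (QCohCat.isQCoh Y).fullyFaithfulι (QCohCat.isQCoh X).fullyFaithfulι (Iso.refl _) (Iso.refl _)

/-- The coherator commutes with push forward. -/
noncomputable def coheratorIso (f : X ⟶ Y) [QuasiCompact f] [QuasiSeparated f]
    (QX : X.Modules ⥤ QCohCat.QCoh X) (adjX : (QCohCat.isQCoh X).ι ⊣ QX)
    (QY : Y.Modules ⥤ QCohCat.QCoh Y) (adjY : (QCohCat.isQCoh Y).ι ⊣ QY) :
    QX ⋙ pushQ f ≅ Scheme.Modules.pushforward f ⋙ QY :=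
  let a₁ : pullQ f ⋙ (QCohCat.isQCoh X).ι ⊣ QX ⋙ pushQ f := (adjQ f).comp adjX
  let a₂ : (QCohCat.isQCoh Y).ι ⋙ Scheme.Modules.pullback f ⊣ Scheme.Modules.pushforward f ⋙ QY :=
    adjY.comp (Scheme.Modules.pullbackPushforwardAdjunction f)
  let e : pullQ f ⋙ (QCohCat.isQCoh X).ι ≅ (QCohCat.isQCoh Y).ι ⋙ Scheme.Modules.pullback f :=
    Iso.refl _
  (a₁.ofNatIsoLeft e).rightAdjointUniq a₂

end K658.PushPull
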