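import Groth.Agent.QCohCat.K658.ZeroOn
import Groth.Agent.QCohCat.K658.PushPull
import Groth.Prelude.Def_CohB1
import Mathlib.CategoryTheory.Localization.CalculusOfFractions.OfAdjunction

/-!
# `QCoh(U)` as a localization of `QCoh(X)`
-/

set_option autoImplicit false
universe u

open CategoryTheory CategoryTheory.Limits AlgebraicGeometry TopologicalSpace Opposite
open Groth.Agent.Ega1.SubSheaf

namespace K658.LocOpen

variable {X : Scheme.{u}}

lemma support_subset_compl_iff (M : X.Modules) (U : X.Opens) :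
    CohB1.support M ⊆ (↑U : Set X)ᶜ ↔ IsZero ((Scheme.Modules.restrictFunctor U.ι).obj M) := by
  rw [ZeroOn.isZero_restrict_iff]
  constructor
  · intro h W hW
    have key (s : Γ(M, W)) : s = 0 := by
      refine section_ext M _ _ fun x hx ↦ ?_
      have h1 : Subsingleton (M.presheaf.stalk x) := by
        by_contra h2
        exact h h2 (hW hx)
      have h2 : TopCat.Presheaf.germ M.presheaf W x hx s = TopCat.Presheaf.germ M.presheaf W x hx 0 :=
        Subsingleton.elim _ _
      obtain ⟨V, hxV, iU, iV, hV⟩ := TopCat.Presheaf.germ_eq M.presheaf x hx hx s 0 h2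
      exact ⟨V, leOfHom iU, hxV, hV⟩
    exact ⟨fun a b ↦ by rw [key a, key b]⟩
  · intro h x hx hxU
    apply hx
    have key (t : M.presheaf.stalk x) : t = 0 := by
      obtain ⟨W, hxW, s, rfl⟩ := TopCat.Presheaf.exists_germ_eq M.presheaf t
      have h1 : TopCat.Presheaf.germ M.presheaf (W ⊓ U) x ⟨hxW, hxU⟩
          (M.presheaf.map (homOfLE inf_le_left).op s) = TopCat.Presheaf.germ M.presheaf W x hxW s :=
        TopCat.Presheaf.germ_res_apply M.presheaf (homOfLE inf_le_left) x ⟨hxW, hxU⟩ s
      have := h (W ⊓ U) inf_le_right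
      have h2 : (M.presheaf.map (homOfLE inf_le_left).op s : Γ(M, W ⊓ U)) = 0 :=
        Subsingleton.elim _ _
      rw [← h1, h2, map_zero]
    exact ⟨fun a b ↦ by rw [key a, key b]⟩

/-- Restriction of quasi-coherent modules to an open. -/
noncomputable abbrev restrictQ (U : X.Opens) : QCohCat.QCoh X ⥤ QCohCat.QCoh (↑U : Scheme.{u}) :=
  ObjectProperty.lift (QCohCat.isQCoh (↑U : Scheme.{u}))
    (ObjectProperty.ι (QCohCat.isQCoh X) ⋙ Scheme.Modules.restrictFunctor U.ι)
    (fun M => @Scheme.Modules.isQuasicoherent_restrictFunctor (↑U : Scheme.{u}) X U.ι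
      inferInstance M.obj M.property)

/-- Restriction is left adjoint to push forward. -/
noncomputable def adjQ (U : X.Opens) [QuasiCompact U.ι] : restrictQ U ⊣ PushPull.pushQ U.ι :=
  (Scheme.Modules.restrictAdjunction U.ι).restrictFullyFaithful
    (QCohCat.isQCoh X).fullyFaithfulι (QCohCat.isQCoh (↑U : Scheme.{u})).fullyFaithfulι
    (Iso.refl _) (Iso.refl _)

lemma isIso_restrict_iff {A B : X.Modules} (f : A ⟶ B) (U : X.Opens) :
    IsIso ((Scheme.Modules.restrictFunctor U.ι).map f) ↔
      CohB1.support (kernel f) ⊆ (↑U : Set X)ᶜ ∧ CohB1.support (cokernel f) ⊆ (↑U : Set X)ᶜ := by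
  rw [support_subset_compl_iff, support_subset_compl_iff]
  let R := Scheme.Modules.restrictFunctor U.ι
  have e1 : R.obj (kernel f) ≅ kernel (R.map f) := PreservesKernel.iso R f
  have e2 : R.obj (cokernel f) ≅ cokernel (R.map f) := PreservesCokernel.iso R f
  constructor
  · intro h
    exact ⟨(isZero_kernel_of_mono (R.map f)).of_iso e1, (isZero_cokernel_of_epi (R.map f)).of_iso e2⟩
  · rintro ⟨h1, h2⟩
    have h3 : Mono (R.map f) := Preadditive.mono_of_isZero_kernel _ (h1.of_iso e1.symm)
    have h4 : Epi (R.map f) := Preadditive.epi_of_isZero_cokernel _ (h2.of_iso e2.symm)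
    exact isIso_of_mono_of_epi _

theorem isLocalization (U : X.Opens) [QuasiCompact U.ι] :
    (restrictQ U).IsLocalization
      (fun (A B : QCohCat.QCoh X) (f : A ⟶ B) =>
        CohB1.support (kernel f.hom) ⊆ (↑U : Set X)ᶜ ∧
          CohB1.support (cokernel f.hom) ⊆ (↑U : Set X)ᶜ) := by
  have hff : (Scheme.Modules.pushforward U.ι).Full := inferInstance
  have hfa : (Scheme.Modules.pushforward U.ι).Faithful := inferInstance
  have h1 : (PushPull.pushQ U.ι ⋙ (QCohCat.isQCoh X).ι).Full :=
    inferInstanceAs ((QCohCat.isQCoh (↑U : Scheme.{u})).ι ⋙ Scheme.Modules.pushforward U.ι).Full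
  have h2 : (PushPull.pushQ U.ι ⋙ (QCohCat.isQCoh X).ι).Faithful :=
    inferInstanceAs ((QCohCat.isQCoh (↑U : Scheme.{u})).ι ⋙ Scheme.Modules.pushforward U.ι).Faithful
  have h3 : (PushPull.pushQ U.ι).Full := Functor.Full.of_comp_faithful _ (QCohCat.isQCoh X).ι
  have h4 : (PushPull.pushQ U.ι).Faithful := Functor.Faithful.of_comp _ (QCohCat.isQCoh X).ι
  have h5 := (adjQ U).isLocalization_leftAdjoint'
  suffices h : ((MorphismProperty.isomorphisms (QCohCat.QCoh (↑U : Scheme.{u}))).inverseImage
      (restrictQ U)) = (fun (A B : QCohCat.QCoh X) (f : A ⟶ B) =>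
        CohB1.support (kernel f.hom) ⊆ (↑U : Set X)ᶜ ∧
          CohB1.support (cokernel f.hom) ⊆ (↑U : Set X)ᶜ) by
    rwa [h] at h5
  ext A B f
  have h6 : IsIso ((restrictQ U).map f) ↔ IsIso ((Scheme.Modules.restrictFunctor U.ι).map f.hom) := by
    constructor
    · intro h
      have h7 : IsIso ((QCohCat.isQCoh (↑U : Scheme.{u})).ι.map ((restrictQ U).map f)) := inferInstance
      exact h7
    · intro h
      have h7 : IsIso ((QCohCat.isQCoh (↑U : Scheme.{u})).ι.map ((restrictQ U).map f)) := h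
      exact isIso_of_reflects_iso _ (QCohCat.isQCoh (↑U : Scheme.{u})).ι
  exact h6.trans (isIso_restrict_iff f.hom U)

end K658.LocOpen
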