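import Groth.Agent.Sga67.PreLift
import Groth.Agent.CohqB.AffIso
import Groth.Agent.Sga5.NoethObj
import Groth.Agent.QCohCat.K658.Abel
import Mathlib.Data.DFinsupp.WellFounded

/-!
# Noetherian objects of `QCoh(X)` are the coherent modules
-/

set_option autoImplicit false
universe u

open CategoryTheory CategoryTheory.Limits AlgebraicGeometry TopologicalSpace Opposite

namespace K658.Noeth

open Groth.Agent.Sga67.CohBasic Groth.Agent.Sga67.PreLift
open Groth.Agent.Dcoh.Restrict (unitHom unitHom_app_one one)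

variable {X : Scheme.{u}}

/-- Every section of a quasi-coherent module on a Noetherian scheme lies in a coherent submodule. -/
theorem exists_isCoh_section [IsNoetherian X] (F : X.Modules) (hF : Coh.IsQCoh F) (U : X.Opens)
    (s : Γ(F, U)) :
    ∃ (G : X.Modules) (i : G ⟶ F), Mono i ∧ Coh.IsCoh G ∧ s ∈ Set.range (i.app U) := by
  have hle : U.ι ''ᵁ ⊤ ≤ U := by simp
  have hle' : U ≤ U.ι ''ᵁ ⊤ := by simp
  let s' : Γ(F.restrict U.ι, ⊤) := F.presheaf.map (homOfLE hle).op s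
  let ψ : Coh.structureModule (U : Scheme.{u}) ⟶ F.restrict U.ι := unitHom s'
  have hFU : Coh.IsQCoh (F.restrict U.ι) := Groth.Agent.CohqB.LocalQC.isQCoh_restrict U.ι hF
  have hG' : Coh.IsCoh (Abelian.image ψ) := isCoh_image ψ isCoh_structureModule hFU
  have hG'1 := hG'.1
  obtain ⟨G, i, e, hi, hGq, hGf, he⟩ := Groth.Agent.S2250.result
    (fun x => ⟨⊤, trivial, by
      have : NoetherianSpace X := inferInstance
      exact NoetherianSpace.set _⟩) U F (Abelian.image ψ) (Abelian.image.ι ψ) hG'.2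
  refine ⟨G, i, hi, ⟨hGq, hGf⟩, ?_⟩
  let u : Γ(G.restrict U.ι, ⊤) := (Abelian.factorThruImage ψ ≫ e.inv).app ⊤ (one ⊤)
  have h1 : ((Scheme.Modules.restrictFunctor U.ι).map i).app ⊤ u = s' := by
    rw [← he]
    change ((Abelian.factorThruImage ψ ≫ e.inv) ≫ e.hom ≫ Abelian.image.ι ψ).app ⊤ (one ⊤) = s'
    rw [Category.assoc, e.inv_hom_id_assoc, Abelian.image.fac]
    exact unitHom_app_one s'
  have h2 : i.app (U.ι ''ᵁ ⊤) (show Γ(G, U.ι ''ᵁ ⊤) from u) = F.presheaf.map (homOfLE hle).op s := h1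
  refine ⟨G.presheaf.map (homOfLE hle').op (show Γ(G, U.ι ''ᵁ ⊤) from u), ?_⟩
  have h3 := ConcreteCategory.congr_hom (i.mapPresheaf.naturality (homOfLE hle').op)
    (show Γ(G, U.ι ''ᵁ ⊤) from u)
  refine h3.trans ?_
  refine (congrArg (F.presheaf.map (homOfLE hle').op) h2).trans ?_
  change (F.presheaf.map (homOfLE hle).op ≫ F.presheaf.map (homOfLE hle').op) s = s
  rw [← Functor.map_comp]
  exact ConcreteCategory.congr_hom (F.presheaf.map_id _) s

lemma mono_homMk {M N : QCohCat.QCoh X} (i : M.obj ⟶ N.obj) [Mono i] :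
    Mono (ObjectProperty.homMk i : M ⟶ N) := by
  have : Mono ((QCohCat.isQCoh X).ι.map (ObjectProperty.homMk i : M ⟶ N)) := ‹Mono i›
  exact (QCohCat.isQCoh X).ι.mono_of_mono_map this

instance mono_hom {M N : QCohCat.QCoh X} (i : M ⟶ N) [Mono i] : Mono i.hom := by
  have := Abel.preservesFiniteLimits_ι X
  exact inferInstanceAs (Mono ((QCohCat.isQCoh X).ι.map i))

theorem isCoh_of_isNoetherianObject [IsNoetherian X] (M : QCohCat.QCoh X) [IsNoetherianObject M] :
    Coh.IsCoh M.obj := by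
  let S : Set (Subobject M) := {K | Coh.IsCoh (K : QCohCat.QCoh X).obj}
  have hS : S.Nonempty := by
    refine ⟨⊥, isCoh_of_isZero ?_⟩
    have h0 : IsZero (((⊥ : Subobject M) : QCohCat.QCoh X)) :=
      (isZero_zero _).of_iso Subobject.botCoeIsoZero
    exact (QCohCat.isQCoh X).ι.map_isZero h0
  obtain ⟨K, hK, hmax⟩ := WellFounded.has_min (r := fun a b : Subobject M ↦ a > b)
    wellFounded_gt S hS
  have hsurj : ∀ (U : X.Opens) (s : Γ(M.obj, U)), ∃ t, K.arrow.hom.app U t = s := by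
    intro U s
    obtain ⟨G, i, hi, hG, ⟨t, ht⟩⟩ := exists_isCoh_section M.obj M.property U s
    obtain ⟨G', i', hi', hG', ⟨a, ha⟩, ⟨b, hb⟩⟩ := exists_isCoh_sup M.property K.arrow.hom i hK hG
    let i'' : (⟨G', hG'.1⟩ : QCohCat.QCoh X) ⟶ M := ObjectProperty.homMk i'
    have hi'' : Mono i'' := mono_homMk (M := ⟨G', hG'.1⟩) (N := M) i'
    have hle : K ≤ Subobject.mk i'' :=
      Subobject.le_mk_of_comm (ObjectProperty.homMk a) (by ext1; exact ha)
    have hmem : Subobject.mk i'' ∈ S := by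
      refine isCoh_of_iso ?_ hG'
      exact ((QCohCat.isQCoh X).ι.mapIso (Subobject.underlyingIso i'')).symm
    have heq : K = Subobject.mk i'' := by
      by_contra hne
      exact hmax _ hmem (lt_of_le_of_ne hle hne)
    let j : (⟨G', hG'.1⟩ : QCohCat.QCoh X) ⟶ (K : QCohCat.QCoh X) :=
      Subobject.ofMkLE i'' K heq.ge
    have hj : j ≫ K.arrow = i'' := Subobject.ofMkLE_arrow heq.ge
    refine ⟨j.hom.app U (b.app U t), ?_⟩
    have h1 : j.hom ≫ K.arrow.hom = i' := congr(($hj).hom)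
    have h2 := congr(($h1).app U (b.app U t))
    have h3 := congr(($hb).app U t)
    refine Eq.trans h2 ?_
    exact h3.trans ht
  have hbij : ∀ U : X.Opens, Function.Bijective (K.arrow.hom.app U) := fun U ↦
    ⟨(Groth.Agent.Ega1.SubSheaf.mono_iff_injective _).1 inferInstance U, hsurj U⟩
  have hiso : IsIso K.arrow.hom := by
    rw [Scheme.Modules.Hom.isIso_iff_isIso_app]
    intro U
    rw [ConcreteCategory.isIso_iff_bijective]
    exact hbij U
  exact isCoh_of_iso (asIso K.arrow.hom) hK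

/-- `φ.app U` as a linear map. -/
noncomputable def appLin {M N : X.Modules} (φ : M ⟶ N) (U : X.Opens) :
    Γ(M, U) →ₗ[Γ(X, U)] Γ(N, U) where
  toFun s := φ.app U s
  map_add' := map_add _
  map_smul' r s := Scheme.Modules.Hom.app_smul φ r s

theorem isNoetherianObject_of_isCoh [IsNoetherian X] (M : QCohCat.QCoh X) (hM : Coh.IsCoh M.obj) :
    IsNoetherianObject M := by
  obtain ⟨t, ht⟩ : ∃ t : Finset X.affineOpens, ∀ x : X, ∃ U ∈ t, x ∈ U.1 := by
    have h1 : ∀ x : X, ∃ U : X.affineOpens, x ∈ U.1 := fun x ↦ by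
      obtain ⟨_, ⟨W, hW, rfl⟩, hxW, -⟩ := X.isBasis_affineOpens.exists_subset_of_mem_open
        (Set.mem_univ x) isOpen_univ
      exact ⟨⟨W, hW⟩, hxW⟩
    choose U hU using h1
    obtain ⟨s, hs⟩ := isCompact_univ.elim_finite_subcover (fun x : X ↦ ((U x).1 : Set X))
      (fun x ↦ (U x).1.isOpen) (fun x _ ↦ Set.mem_iUnion.2 ⟨x, hU x⟩)
    classical
    refine ⟨s.image U, fun x ↦ ?_⟩
    obtain ⟨y, hy, hxy⟩ := Set.mem_iUnion₂.1 (hs (Set.mem_univ x))
    exact ⟨U y, Finset.mem_image_of_mem _ hy, hxy⟩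
  have hfin : ∀ U : X.affineOpens, _root_.IsNoetherian Γ(X, U.1) Γ(M.obj, U.1) := fun U ↦ by
    have h1 : IsNoetherianRing Γ(X, U.1) := IsLocallyNoetherian.component_noetherian U
    have h2 : Module.Finite Γ(X, U.1) Γ(M.obj, U.1) := finite_sections hM U
    exact isNoetherian_of_isNoetherianRing_of_finite _ _
  let F : Subobject M → (∀ U : t, Submodule Γ(X, U.1.1) Γ(M.obj, U.1.1)) :=
    fun K U ↦ LinearMap.range (appLin K.arrow.hom U.1.1)
  have hwf : WellFoundedGT (∀ U : t, Submodule Γ(X, U.1.1) Γ(M.obj, U.1.1)) := by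
    have h1 : ∀ U : t, WellFoundedLT (Submodule Γ(X, U.1.1) Γ(M.obj, U.1.1))ᵒᵈ := fun U ↦ by
      have := hfin U.1
      have h2 : WellFoundedGT (Submodule Γ(X, U.1.1) Γ(M.obj, U.1.1)) := inferInstance
      exact inferInstance
    have h2 : WellFoundedLT (∀ U : t, (Submodule Γ(X, U.1.1) Γ(M.obj, U.1.1))ᵒᵈ) :=
      Pi.wellFoundedLT
    exact ⟨h2.wf⟩
  refine Groth.Agent.Sga5.NoethObj.noeth_of_strictMono F ?_ ?_
  · intro P Q h U
    rintro _ ⟨s, rfl⟩
    refine ⟨(Subobject.ofLE P Q h).hom.app U.1.1 s, ?_⟩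
    have h1 := congr(($(Subobject.ofLE_arrow h)).hom.app U.1.1 s)
    exact h1
  · intro P Q h hF
    let j := Subobject.ofLE P Q h
    have hP : Coh.IsQCoh ((P : QCohCat.QCoh X)).obj := (P : QCohCat.QCoh X).property
    have hQ : Coh.IsQCoh ((Q : QCohCat.QCoh X)).obj := (Q : QCohCat.QCoh X).property
    have hj : j ≫ Q.arrow = P.arrow := Subobject.ofLE_arrow h
    have hiso : IsIso j.hom := by
      refine Groth.Agent.CohqB.AffIso.isIso_of_affine_cover j.hom fun x ↦ ?_
      obtain ⟨U, hU, hxU⟩ := ht x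
      refine ⟨U.1, hxU, U.2, (Groth.Agent.Ega1.SubSheaf.mono_iff_injective _).1 inferInstance U.1,
        fun s ↦ ?_⟩
      have h1 : appLin Q.arrow.hom U.1 s ∈ F Q ⟨U, hU⟩ := ⟨s, rfl⟩
      rw [← hF] at h1
      obtain ⟨r, hr⟩ := h1
      refine ⟨r, ?_⟩
      apply (Groth.Agent.Ega1.SubSheaf.mono_iff_injective Q.arrow.hom).1 inferInstance U.1
      have h2 := congr(($hj).hom.app U.1 r)
      exact Eq.trans h2 hr
    have hiso' : IsIso j := by
      have : IsIso ((QCohCat.isQCoh X).ι.map j) := hiso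
      exact isIso_of_reflects_iso j (QCohCat.isQCoh X).ι
    refine le_antisymm h ?_
    exact Subobject.le_of_comm (inv j) (by rw [IsIso.inv_comp_eq]; exact hj.symm)

end K658.Noeth
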